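import Cfsg.Agent.H187.Ore.HN15

/-!
# The centre of the odd core of the centralizer of a 3-central element of `HN` (helper344, for S3509)

`center_OO` : an element of `O(C(X3))` commuting with `O(C(X3))` is a power of `X3`.
-/

set_option autoImplicit false

namespace Cfsg.Agent.H344.RG.HNcen

open Subgroup Cfsg
open Cfsg.Agent Cfsg.Agent.H478.HNThree Cfsg.Agent.H187.Ore.HN15
open Cfsg.Agent.CpAutHN.Alt Cfsg.Agent.CpAutHN.Tr Cfsg.Agent.CpAutHN.Pairs
open Cfsg.Agent.H991.SN.HN (card_MM)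
open Cfsg.Agent.H569.HNThree (card_G finite_G MM ss order_ss S3X3 comm_core index_X3 mk mk_core sg sg_mem)

attribute [local instance] Cfsg.Agent.H569.HNThree.finite_G

theorem uu_gg : uu * gg ≠ gg * uu := by
  intro h
  have h1 : ((uu * gg : MM) : G) = ((gg * uu : MM) : G) := congrArg Subtype.val h
  rw [Subgroup.coe_mul, Subgroup.coe_mul, show (gg : G) = Φ ⟨sg, sg_mem⟩ from rfl, show (uu : G) = Φ ⟨y3, y3_mem⟩ from rfl,
    ← map_mul, ← map_mul] at h1
  have h2 := congrArg Subtype.val (Φ_inj h1)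
  revert h2
  change ¬ (y3 * sg = sg * y3)
  decide +kernel

/-- the centre of the odd core -/
noncomputable def ZZ : Subgroup MM := OO ⊓ centralizer (OO : Set MM)

theorem zz_conj {c : MM} (hc : c ∈ ZZ) (y : MM) : y * c * y⁻¹ ∈ ZZ := by
  refine ⟨OO_normal.conj_mem c hc.1 y, mem_centralizer_iff.2 fun u hu => ?_⟩
  have h1 : y⁻¹ * u * y⁻¹⁻¹ ∈ OO := OO_normal.conj_mem u hu y⁻¹
  rw [inv_inv] at h1
  have h2 := mem_centralizer_iff.1 hc.2 _ h1
  calc u * (y * c * y⁻¹) = y * (y⁻¹ * u * y * c) * y⁻¹ := by group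
    _ = y * (c * (y⁻¹ * u * y)) * y⁻¹ := by rw [h2]
    _ = y * c * y⁻¹ * u := by group

theorem card_OO : Nat.card OO ∣ 243 := by
  let g : OO →* MM ⧸ zpowers xx := q.comp OO.subtype
  have h1 := g.ker.card_mul_index
  rw [Subgroup.index_ker] at h1
  have h2 : g.range = Ob := by
    ext v
    constructor
    · rintro ⟨u, rfl⟩
      exact ⟨u, u.2, rfl⟩
    · rintro ⟨u, hu, rfl⟩
      exact ⟨⟨u, hu⟩, rfl⟩
  have h3 : Nat.card g.ker = 3 := by
    rw [← order_xx, ← Nat.card_zpowers]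
    refine Nat.card_congr ⟨fun u => ⟨(u : OO), ?_⟩, fun u => ⟨⟨u, Z_le u.2⟩, ?_⟩, fun u => rfl, fun u => rfl⟩
    · exact (QuotientGroup.eq_one_iff _).1 (MonoidHom.mem_ker.1 u.2)
    · exact MonoidHom.mem_ker.2 ((QuotientGroup.eq_one_iff _).2 u.2)
  rw [h2, h3] at h1
  rw [← h1]
  exact (Nat.mul_dvd_mul_left 3 card_Ob).trans (dvd_of_eq (by norm_num))

theorem exists_five : ∃ y : MM, orderOf y = 5 := by
  have : Fact (Nat.Prime 5) := ⟨Nat.prime_five⟩
  refine exists_prime_orderOf_dvd_card' 5 ?_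
  rw [card_MM]
  exact (by norm_num : 5 ∣ 360).mul_left _

/-- **the centre of `O(C(X3))`** -/
theorem center_OO {c : MM} (hc : c ∈ OO) (h : ∀ u ∈ OO, u * c = c * u) : c ∈ zpowers xx := by
  classical
  have : Fact (Nat.Prime 5) := ⟨Nat.prime_five⟩
  obtain ⟨y, hy⟩ := exists_five
  have := Fintype.ofFinite ZZ
  have hy5 : y ^ 5 = 1 := by rw [← hy, pow_orderOf_eq_one]
  let f : Function.End ZZ := fun u => ⟨y * u * y⁻¹, zz_conj u.2 y⟩
  have hpow : ∀ (k : ℕ) (u : ZZ), (((f ^ k) u : ZZ) : MM) = y ^ k * u * (y ^ k)⁻¹ := by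
    intro k
    induction k with
    | zero =>
      intro u
      rw [pow_zero, pow_zero, inv_one, one_mul, mul_one]
      rfl
    | succ k ih =>
      intro u
      have e1 : (f ^ (k + 1)) u = (f ^ k) (f u) := by rw [pow_succ]; rfl
      rw [e1, ih, pow_succ]
      change y ^ k * (y * u * y⁻¹) * (y ^ k)⁻¹ = _
      group
  have hf : f ^ 5 ^ 1 = 1 := by
    funext u
    apply Subtype.ext
    rw [hpow, pow_one, hy5, inv_one, one_mul, mul_one]
    rfl
  have h1 := Equiv.Perm.card_fixedPoints_modEq hf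
  have h2 : Fintype.card (Function.fixedPoints f) = 3 := by
    rw [← Nat.card_eq_fintype_card, ← order_xx, ← Nat.card_zpowers]
    refine Nat.card_congr ⟨fun u => ⟨((u : ZZ) : MM), ?_⟩, fun u => ⟨⟨u, Z_le u.2, ?_⟩, ?_⟩, fun u => rfl, fun u => rfl⟩
    · have h3 : y * (u : ZZ) * y⁻¹ = ((u : ZZ) : MM) := congrArg Subtype.val u.2
      exact mem_of_comm hy (u : ZZ).2.1 (mul_inv_eq_iff_eq_mul.1 h3)
    · obtain ⟨k, hk⟩ := mem_zpowers_iff.1 u.2
      refine mem_centralizer_iff.2 fun v _ => ?_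
      rw [← hk]
      exact ((show Commute v xx from xx_comm v).zpow_right k).eq
    · obtain ⟨k, hk⟩ := mem_zpowers_iff.1 u.2
      apply Subtype.ext
      change y * (u : MM) * y⁻¹ = u
      rw [← hk, ((show Commute y xx from xx_comm y).zpow_right k).eq, mul_inv_cancel_right]
  rw [h2, ← Nat.card_eq_fintype_card] at h1
  have h3 : Nat.card ZZ ∣ 243 := (card_dvd_of_le inf_le_left).trans card_OO
  have h4 : Nat.card ZZ = 3 ∨ Nat.card ZZ = 243 := by
    have h5 : Nat.card ZZ ∣ 3 ^ 5 := h3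
    obtain ⟨k, hk, h6⟩ := (Nat.dvd_prime_pow Nat.prime_three).1 h5
    rw [h6] at h1 ⊢
    interval_cases k <;> revert h1 <;> decide
  have hcZ : c ∈ ZZ := ⟨hc, mem_centralizer_iff.2 h⟩
  rcases h4 with h4 | h4
  · have h5 : zpowers xx = ZZ := by
      refine Subgroup.eq_of_le_of_card_ge ?_ (by rw [h4, Nat.card_zpowers, order_xx])
      rw [zpowers_le]
      exact ⟨Z_le (mem_zpowers xx), mem_centralizer_iff.2 fun v _ => xx_comm v⟩
    rw [h5]
    exact hcZ
  · exfalso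
    have h5 : ZZ = OO := Subgroup.eq_of_le_of_card_ge inf_le_left
      (by rw [h4]; exact Nat.le_of_dvd (by norm_num) card_OO)
    have h6 : gg ∈ ZZ := by rw [h5]; exact gg_mem
    exact uu_gg (mem_centralizer_iff.1 h6.2 uu uu_mem)

end Cfsg.Agent.H344.RG.HNcen
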